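import Cfsg.Agent.Lib.FL.Tw
import Cfsg.Agent.Lib.Unitary.Wall
import Cfsg.Agent.Lib.Linear.Descent

/-! The special linear and unitary groups as groups of fixed points. -/

set_option autoImplicit false

namespace Cfsg.Lib.FL

open Subgroup Equiv Cfsg.Lib.Unitary Cfsg.Lib.Linear
open Matrix.GeneralLinearGroup (det)
open Matrix.SpecialLinearGroup (toGL)
open scoped MatrixGroups

variable {n q : ℕ} {K : Type} [Field K] [Fintype K]

theorem tw_su (hK : Fintype.card K = q ^ 2) (hq : Odd q) (hn : 2 ≤ n) : Nonempty (Tw n K (SU n K q) (-q)) := by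
  obtain ⟨σ, hσ⟩ := exists_isBar hK
  let θ : GL (Fin n) K →* GL (Fin n) K := MonoidHom.mk' (fun g => (ctGL σ g)⁻¹) fun a b => by rw [ctGL_mul, mul_inv_rev]
  have fx : ∀ g, θ g = g ↔ ctGL σ g = g⁻¹ := fun g => inv_eq_iff_eq_inv
  have e : θ.eqLocus (.id _) = GU n K q := Subgroup.ext fun g => (fx g).trans hσ.mem_GU_ct.symm
  refine ⟨⟨θ, toGL.comp (Subgroup.subtype _), Matrix.SpecialLinearGroup.toGL_injective.comp Subtype.val_injective,
    fun g => ⟨fun ⟨x, e⟩ => e ▸ ⟨(fx _).2 (hσ.mem_GU_ct.1 x.2), by simp⟩, fun ⟨a, b⟩ =>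
      ⟨⟨⟨g.1, congrArg Units.val b⟩, hσ.mem_SU_iff.2 (hσ.mem_GU_iff.1 (hσ.mem_GU_ct.2 ((fx g).1 a)))⟩, Units.ext rfl⟩⟩,
    fun χ m => ?_, fun g => ?_, fun g a b => ?_, fun _ r g => ?_, ⟨q ^ (n * (n - 1) / 2) * ∏ i ∈ Finset.range n, (-1) ^ (i + 1),
      (Int.odd_coe_nat q).2 hq |>.pow.mul (Finset.prod_induction _ Odd (fun _ _ => Odd.mul) odd_one fun _ _ => odd_neg_one.pow), ?_⟩,
    fun h e => (mem_center_SU hK hn).1 e, by simp [hK]⟩⟩
  · refine inv_eq_iff_eq_inv.2 (Units.ext ?_)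
    rw [← map_inv]
    ext a b
    simp only [ctGL_coe, ct_apply, MonoidHom.coe_toHomUnits, Matrix.transpose_apply, Matrix.map_apply, mn_apply, W.inv_τ, W.inv_d,
      Perm.eq_inv_iff_eq, eq_comm (a := b)]
    split_ifs with e
    · simp [← e, hσ.eq]
    · exact map_zero _
  · refine (map_inv _ _).trans ?_
    rw [zpow_neg, zpow_natCast]
    exact congrArg _ (Units.ext ((det_ct _).trans (hσ.eq _)))
  · obtain ⟨c, hc, -⟩ := hσ.exists_ct_mul (((fx g).1 a).trans (inv_eq_of_mul_eq_one_right b))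
    exact ⟨c, inv_eq_of_mul_eq_one_right (by rw [← mul_assoc, hc, b])⟩
  · obtain ⟨c, hc, hc'⟩ := hσ.exists_polar g
    refine ⟨⟨_, (fx _).2 hc⟩, fun x y e => Subtype.ext ?_⟩
    have hb := (fx _).1 (r y).2
    change (r y).1 = g * (r x).1 * g⁻¹ at e
    have h1 : Commute (ctGL σ g * g) (r x).1 := by
      rw [e, ctGL_mul, ctGL_mul, ctGL_inv, (fx _).1 (r x).2] at hb
      rw [Commute, SemiconjBy]
      calc _ = ctGL σ g * ((g * (r x).1 * g⁻¹)⁻¹)⁻¹ * g := by group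
        _ = _ := by rw [← hb]; group
    have h2 : Commute c (r x).1 := commute_gl_iff.2 (hc' _ (commute_gl_iff.1 h1))
    change _ = g * c⁻¹ * (r x).1 * (g * c⁻¹)⁻¹
    rw [e, mul_assoc g c⁻¹, h2.inv_left.eq]; group
  · rw [e, card_GU hK, guOrder_cast (one_le_two.trans hσ.two_le), mul_assoc, ← Finset.prod_mul_distrib, Finset.prod_range]
    congr; funext i
    rw [neg_pow (q : ℤ), mul_sub, ← mul_assoc, ← mul_pow]
    simp

theorem exists_sq_field {F : Type*} [Field F] [Fintype F] :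
    ∃ (K : Type) (_ : Field K) (_ : Fintype K), Fintype.card K = Fintype.card F ^ 2 := by
  obtain ⟨p, _, f, hp, e⟩ := FiniteField.card' F
  have := Fact.mk hp
  have := Fintype.ofFinite (GaloisField p (f * 2))
  exact ⟨GaloisField p (f * 2), inferInstance, this, by rw [← Nat.card_eq_fintype_card, GaloisField.card _ _ (by simp), e, pow_mul]⟩

theorem tw_sl {F : Type*} [Field F] [Fintype F] (hF : Fintype.card F = q) (hK : Fintype.card K = q ^ 2) (hq : Odd q) (hn : 2 ≤ n) :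
    Nonempty (Tw n K SL(n, F) q) := by
  obtain ⟨σ0, hσ⟩ := exists_isBar hK
  let σ := RingEquiv.ofBijective σ0 hσ.bijective
  obtain ⟨φ, hφ⟩ := exists_ringHom_range_fixField (σ := σ) (K := F) (by
    rw [Nat.card_eq_fintype_card, hF]; exact hσ.card_fixed.symm)
  have r := range_map_GL (ι := Fin n) hφ
  have inj : Function.Injective (Matrix.GeneralLinearGroup.map φ : GL (Fin n) F →* GL (Fin n) K) := fun a b e =>
    Units.ext (Matrix.map_injective φ.injective (congrArg Units.val e))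
  have o2 : orderOf σ = 2 := orderOf_eq_prime (RingEquiv.ext hσ.invol) fun e => hσ.ne_id (RingHom.ext fun a => (DFunLike.congr_fun e a :))
  have dm : ∀ g : GL (Fin n) F, (det (Matrix.GeneralLinearGroup.map φ g)).1 = φ (det g).1 := fun g => (φ.map_det _).symm
  have h2 : (2 : K) ≠ 0 := two_ne (τ := q) (by simp [hK]) ((Int.odd_coe_nat q).2 hq)
  let ε := (MonoidHom.ofInjective inj).trans (MulEquiv.subgroupCongr r)
  refine ⟨⟨MulEquiv.toMonoidHom (fieldGL σ), (Matrix.GeneralLinearGroup.map φ).comp toGL, inj.comp Matrix.SpecialLinearGroup.toGL_injective,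
    fun g => ⟨fun ⟨x, e⟩ => ⟨mem_fixSub.1 (r.le ⟨_, e⟩), e ▸ Units.ext ((dm _).trans (by simp))⟩, fun ⟨a, b⟩ => ?_⟩,
    fun χ m => ?_, fun g => ?_, fun g a b => ?_, fun {M} _ _ hM s => ?_,
    ⟨q ^ (n * (n - 1) / 2), (Int.odd_coe_nat q).2 hq |>.pow, ?_⟩, fun h e => ?_, by simp [hK]⟩⟩
  · obtain ⟨g, rfl⟩ := r.ge a
    exact ⟨⟨g.1, φ.injective ((dm g).symm.trans ((congrArg Units.val b).trans φ.map_one.symm))⟩, Units.ext rfl⟩
  · ext a b
    change σ0 (mn χ m a b) = mn χ _ a b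
    simp only [mn_apply]
    split_ifs
    · simp [hσ.eq]
    · exact map_zero _
  · exact (det_fieldGL σ g).trans (Units.ext ((hσ.eq _).trans (by simp)))
  · obtain ⟨h, e⟩ := lang_GL (σ := σ) (g := g) (by omega) (by rw [o2, nrm_two]; exact (congrArg (g * ·) a).trans b)
    exact ⟨h⁻¹, by rw [e, map_inv, inv_mul_cancel_left]; rfl⟩
  · let t := ε.symm.toMonoidHom.comp s
    have := Le.change hM ((Units.coeHom _).comp t) φ (.id F) h2 fun e => h2 (by rw [← map_ofNat φ, e, map_zero])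
    refine fun g => let ⟨h, e⟩ := this.trans (Le.map _ ε.toMonoidHom) g; ⟨h, fun x y u => ?_⟩
    have k : ∀ x, ε (t x) = s x := fun x => ε.apply_symm_apply (s x)
    have k' : ∀ x, (s x).1 = (mp φ ((Units.coeHom _).comp t)).toHomUnits x := fun x =>
      (congrArg Subtype.val (k x)).symm.trans (Units.ext rfl)
    have k'' : ∀ x, (mp (.id F) ((Units.coeHom _).comp t)).toHomUnits x = t x := fun x => Units.ext rfl
    have := e x y (k' x ▸ k' y ▸ u)
    rw [MonoidHom.comp_apply, MonoidHom.comp_apply, k'', k''] at this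
    exact k x ▸ k y ▸ this
  · refine (congrArg _ (Nat.card_congr ε.toEquiv).symm).trans ?_
    rw [card_GL, prod_pow_sub_pow, Fintype.card_fin, hF]
    push_cast [Nat.cast_sub (Nat.one_le_pow _ _ hq.pos)]
    rfl
  · obtain ⟨a, -, e⟩ := Matrix.SpecialLinearGroup.mem_center_iff.1 e
    refine ⟨φ a, ?_⟩
    change h.1.map φ = _
    rw [← e]
    ext i j
    simp [Matrix.diagonal_apply, Matrix.one_apply, apply_ite φ]

variable {b k q' : ℕ} {F F' : Type*} [Field F] [Fintype F] [Field F'] [Fintype F']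

theorem eqv_ll (hn : 2 ≤ n ∧ n ≤ 5) (hb : b < 2) (h : Ty (Fintype.card F) b k) (h' : Ty (Fintype.card F') b k) :
    Eqv PSL(n, F) PSL(n, F') :=
  let ⟨_, _, _, e⟩ := exists_sq_field (F := F)
  let ⟨_, _, _, e'⟩ := exists_sq_field (F := F')
  (tw_sl rfl e ((Int.odd_coe_nat _).1 h.odd) hn.1).some.eqv (tw_sl rfl e' ((Int.odd_coe_nat _).1 h'.odd) hn.1).some hn hb h h'

theorem eqv_ul (hn : 2 ≤ n ∧ n ≤ 5) (hb : b < 2) (hK : Fintype.card K = q ^ 2) (h : Ty (-q) b k)
    (h' : Ty (Fintype.card F) b k) : Eqv (PSU n K q) PSL(n, F) :=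
  let ⟨_, _, _, e'⟩ := exists_sq_field (F := F)
  (tw_su hK ((Int.odd_coe_nat _).1 (odd_neg.1 h.odd)) hn.1).some.eqv
    (tw_sl rfl e' ((Int.odd_coe_nat _).1 h'.odd) hn.1).some hn hb h h'

end Cfsg.Lib.FL
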