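import Cfsg.Agent.Lib.FL.Mod

/-! Two-adic arithmetic of the parameter `τ = ± q`. -/

set_option autoImplicit false

namespace Cfsg.Lib.FL

variable {τ τ' : ℤ} {n b k : ℕ}

theorem val_int {x o : ℤ} {e : ℕ} (h : x = 2 ^ e * o) (ho : Odd o) : padicValNat 2 x.natAbs = e := by
  have := Int.natAbs_odd.2 ho
  rw [h, Int.natAbs_mul, Int.natAbs_pow, padicValNat.mul (by simp) this.pos.ne', show Int.natAbs 2 = 2 from rfl,
    padicValNat.prime_pow, padicValNat.eq_zero_of_not_dvd this.not_two_dvd_nat, add_zero]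

theorem Ty.odd (h : Ty τ b k) : Odd τ := by
  obtain ⟨hk, u, -, rfl⟩ := h
  exact (odd_neg_one.pow).add_even (((Int.even_pow' (by omega)).2 even_two).mul_right _)

theorem Ty.neg (h : Ty τ b k) : Ty (-τ) (b + 1) k :=
  let ⟨hk, u, hu, e⟩ := h; ⟨hk, -u, hu.neg, by rw [e]; ring⟩

theorem Ty.two (h : Ty τ (b + 2) k) : Ty τ b k :=
  let ⟨hk, u, hu, e⟩ := h; ⟨hk, u, hu, by rw [e]; ring⟩

theorem Ty.sub (h : Ty τ b k) (hb : b < 2) : ∃ o, Odd o ∧ τ - 1 = 2 ^ (if b = 0 then k else 1) * o := by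
  obtain ⟨hk, u, hu, rfl⟩ := h
  obtain ⟨k, rfl⟩ := Nat.exists_eq_add_of_le' hk
  interval_cases b
  exacts [⟨u, hu, by simp⟩, ⟨2 * (2 ^ k * u) - 1, by simp, by simp; ring⟩]

theorem Ty.add (h : Ty τ b k) (hb : b < 2) : ∃ o, Odd o ∧ τ + 1 = 2 ^ (if b = 0 then 1 else k) * o := by
  obtain ⟨hk, u, hu, rfl⟩ := h
  obtain ⟨k, rfl⟩ := Nat.exists_eq_add_of_le' hk
  interval_cases b
  exacts [⟨2 * (2 ^ k * u) + 1, by simp, by simp; ring⟩, ⟨u, hu, by simp⟩]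

theorem Ty.sq (h : Ty τ b k) (hb : b < 2) : ∃ o, Odd o ∧ τ ^ 2 - 1 = 2 ^ (k + 1) * o := by
  obtain ⟨a, ha, e⟩ := h.sub hb
  obtain ⟨c, hc, f⟩ := h.add hb
  refine ⟨a * c, ha.mul hc, ?_⟩
  rw [show τ ^ 2 - 1 = (τ - 1) * (τ + 1) by ring, e, f]
  split_ifs <;> ring

theorem Ty.prod (h : Ty τ b k) (hb : b < 2) (hn : 2 ≤ n ∧ n ≤ 5) :
    ∃ o, Odd o ∧ ∏ i ∈ Finset.range n, (τ ^ (i + 1) - 1) = 2 ^ ex n b k * o := by
  obtain ⟨a, ha, e⟩ := h.sub hb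
  obtain ⟨c, hc, f⟩ := h.sq hb
  obtain ⟨t, ht⟩ := h.odd
  have o3 : Odd (τ ^ 2 + τ + 1) := (h.odd.pow.add_odd h.odd).add_one
  have o5 : Odd (τ ^ 4 + τ ^ 3 + (τ ^ 2 + τ + 1)) := (h.odd.pow.add_odd h.odd.pow).add_odd o3
  have o4 : Odd (2 * (t ^ 2 + t) + 1) := odd_two_mul_add_one _
  have e3 : τ ^ 3 - 1 = (τ - 1) * (τ ^ 2 + τ + 1) := by ring
  have e4 : τ ^ 4 - 1 = (τ ^ 2 - 1) * (2 * (2 * (t ^ 2 + t) + 1)) := by rw [ht]; ring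
  have e5 : τ ^ 5 - 1 = (τ - 1) * (τ ^ 4 + τ ^ 3 + (τ ^ 2 + τ + 1)) := by ring
  rw [e] at e3 e5
  rw [f] at e4
  obtain ⟨h1, h2⟩ := hn
  unfold ex
  generalize (if b = 0 then k else 1) = s at *
  generalize τ ^ 4 + τ ^ 3 + (τ ^ 2 + τ + 1) = x at *
  generalize τ ^ 2 + τ + 1 = y at *
  generalize 2 * (t ^ 2 + t) + 1 = z at *
  interval_cases n <;>
    simp only [Finset.prod_range_succ, Finset.prod_range_zero, Nat.reduceAdd, pow_one, e, f, e3, e4, e5, Nat.reduceDiv]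
  exacts [⟨_, ha.mul hc, by ring⟩, ⟨_, (ha.mul hc).mul (ha.mul o3), by ring⟩,
    ⟨_, ((ha.mul hc).mul (ha.mul o3)).mul (hc.mul o4), by ring⟩,
    ⟨_, (((ha.mul hc).mul (ha.mul o3)).mul (hc.mul o4)).mul (ha.mul o5), by ring⟩]

theorem exists_ty (h : Odd τ) (h1 : τ ^ 2 ≠ 1) : ∃ b < 2, ∃ k, Ty τ b k := by
  have key : ∀ {x : ℤ}, x ≠ 0 → 4 ∣ x → ∃ k, 2 ≤ k ∧ ∃ u, Odd u ∧ x = 2 ^ k * u := fun {x} h0 h4 => by
    obtain ⟨u, hu⟩ := padicValInt_dvd (p := 2) x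
    refine ⟨_, ((padicValInt_dvd_iff (p := 2) 2 x).1 h4).resolve_left h0, u, Int.not_even_iff_odd.1 fun ⟨w, e⟩ => ?_, hu⟩
    have := ((padicValInt_dvd_iff (p := 2) (padicValInt 2 x + 1) x).1 ⟨w, by rw [e] at hu; exact hu.trans (by ring)⟩).resolve_left h0
    omega
  obtain ⟨t, rfl⟩ := h
  rcases Int.even_or_odd' t with ⟨s, rfl | rfl⟩
  · obtain ⟨k, a, u, b, e⟩ := key (x := 4 * s) (fun e => h1 (by rw [show s = 0 by omega]; rfl)) ⟨s, rfl⟩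
    exact ⟨0, two_pos, k, a, u, b, by rw [← e]; ring⟩
  · obtain ⟨k, a, u, b, e⟩ := key (x := 4 * (s + 1)) (fun e => h1 (by rw [show s = -1 by omega]; rfl)) ⟨_, rfl⟩
    exact ⟨1, one_lt_two, k, a, u, b, by rw [← e]; ring⟩

theorem Ty.val (h : Ty τ b k) (hb : b < 2) : padicValNat 2 (τ - 1).natAbs = (if b = 0 then k else 1) ∧
    padicValNat 2 (τ + 1).natAbs = if b = 0 then 1 else k :=
  let ⟨_, a, e⟩ := h.sub hb; let ⟨_, c, f⟩ := h.add hb; ⟨val_int e a, val_int f c⟩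

theorem Ty.iff {b' k' : ℕ} (h : Ty τ b k) (h' : Ty τ' b' k') (hb : b < 2) (hb' : b' < 2) :
    (padicValNat 2 (τ' - 1).natAbs = padicValNat 2 (τ - 1).natAbs ∧
      padicValNat 2 (τ' + 1).natAbs = padicValNat 2 (τ + 1).natAbs) ↔ b' = b ∧ k' = k := by
  rw [(h.val hb).1, (h.val hb).2, (h'.val hb').1, (h'.val hb').2]
  have := h.1
  have := h'.1
  split_ifs <;> omega

theorem Ty.zpow (h : Ty τ b k) (x : Mu (k + 1)) : x ^ τ = x ^ ((-1) ^ b + 2 ^ k : ℤ) := by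
  obtain ⟨-, _, ⟨u, rfl⟩, rfl⟩ := h
  rw [show (-1) ^ b + 2 ^ k * (2 * u + 1) = (-1) ^ b + 2 ^ k + (2 ^ (k + 1) : ℕ) * u by push_cast; ring, zpow_add, zpow_mul,
    zpow_natCast, Mu.pow, one_zpow, mul_one]

theorem exists_prime_ty (b : ℕ) (hk : 2 ≤ k) : ∃ p : ℕ, p.Prime ∧ 3 < p ∧ Ty p b k := by
  have o : Odd ((-1) ^ b + 2 ^ k : ℤ) := (show Ty _ b k from ⟨hk, 1, odd_one, by rw [mul_one]⟩).odd
  obtain ⟨p, h3, hp, e⟩ := Nat.forall_exists_prime_gt_and_zmodEq 3 (q := 2 ^ (k + 1)) (by positivity) (a := (-1) ^ b + 2 ^ k)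
    (by push_cast; exact (Int.isCoprime_two_right.2 o).pow_right)
  obtain ⟨c, hc⟩ := e.symm.dvd
  exact ⟨p, hp, h3, hk, 2 * c + 1, odd_two_mul_add_one c, by push_cast at hc; linear_combination hc⟩

end Cfsg.Lib.FL
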