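import Cfsg.Agent.Lib.Transfer.Alperin
import Cfsg.Prelude.Def_FusionSystem

/-! Isomorphism of the 2-fusion systems of two finite groups, as a relation between groups. -/

set_option autoImplicit false

namespace Cfsg.Lib.FL

open Subgroup Cfsg.Lib.Transfer

variable {M N G H K : Type*} [Group M] [Group N] [Group G] [Group H] [Group K] {ι : M →* G} {κ : M →* H}

/-- Every conjugation of `G` on the image of `M` is matched by a conjugation of `H`. -/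
def Le (ι : M →* G) (κ : M →* H) : Prop :=
  ∀ g : G, ∃ h : H, ∀ x y, ι y = g * ι x * g⁻¹ → κ y = h * κ x * h⁻¹

/-- The image is a Sylow 2-subgroup. -/
def Sy (ι : M →* G) : Prop := ∃ T : Sylow 2 G, (T : Subgroup G) = ι.range

/-- `G` and `H` have isomorphic 2-fusion systems. -/
def Eqv (G H : Type*) [Group G] [Group H] : Prop :=
  ∀ S : Sylow 2 G, ∃ κ : S →* H, Sy κ ∧ Le (S : Subgroup G).subtype κ ∧ Le κ (S : Subgroup G).subtype

theorem Le.trans {μ : M →* K} (a : Le ι κ) (b : Le κ μ) : Le ι μ := fun g =>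
  let ⟨h, e⟩ := a g; let ⟨k, f⟩ := b h; ⟨k, fun x y u => f x y (e x y u)⟩

theorem Le.comp (a : Le ι κ) (f : N →* M) : Le (ι.comp f) (κ.comp f) := fun g =>
  let ⟨h, e⟩ := a g; ⟨h, fun _ _ u => e _ _ u⟩

theorem Le.of_surj {f : N →* M} (hf : Function.Surjective f) (a : Le (ι.comp f) (κ.comp f)) : Le ι κ := fun g => by
  obtain ⟨h, e⟩ := a g
  refine ⟨h, fun x y u => ?_⟩
  obtain ⟨x, rfl⟩ := hf x
  obtain ⟨y, rfl⟩ := hf y
  exact e x y u

theorem Le.ker (a : Le ι κ) {x : M} (h : ι x = 1) : κ x = 1 := by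
  obtain ⟨g, e⟩ := a 1
  simpa using e 1 x (by simpa using h)

theorem Le.map (ι : M →* G) (e : G →* H) : Le ι (e.comp ι) := fun g => ⟨e g, fun x y u => by simp [u]⟩

theorem Le.map' (ι : M →* G) (e : G ≃* H) : Le (e.toMonoidHom.comp ι) ι := fun g =>
  ⟨e.symm g, fun x y u => e.injective (by simpa using u)⟩

theorem Sy.map [Finite G] (h : Sy ι) {e : G →* H} (he : Function.Surjective e) : Sy (e.comp ι) :=
  let ⟨T, hT⟩ := h; ⟨T.mapSurjective he, by rw [Sylow.coe_mapSurjective, hT, MonoidHom.range_comp]⟩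

theorem Sy.comp (h : Sy ι) {f : N →* M} (hf : Function.Surjective f) : Sy (ι.comp f) :=
  let ⟨T, hT⟩ := h; ⟨T, by rw [hT, MonoidHom.range_comp, MonoidHom.range_eq_top.2 hf, ← MonoidHom.range_eq_map]⟩

theorem sy_subtype (S : Sylow 2 G) : Sy (S : Subgroup G).subtype := ⟨S, (range_subtype _).symm⟩

theorem Sy.of_card [Finite G] (hM : IsPGroup 2 M) (hi : Function.Injective ι) {m : ℕ} (hm : Odd m) {a : ℕ}
    (e : Nat.card G = a * m) (l : a ≤ Nat.card M) : Sy ι := by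
  have hp : IsPGroup 2 ι.range := hM.of_equiv (MonoidHom.ofInjective hi)
  obtain ⟨T, hT⟩ := hp.exists_le_sylow
  refine ⟨T, (eq_of_le_of_card_ge hT ?_).symm⟩
  rw [← Nat.card_congr (MonoidHom.ofInjective hi).toEquiv]
  obtain ⟨k, hk⟩ := IsPGroup.iff_card.1 T.2
  refine (Nat.le_of_dvd (Nat.pos_of_mul_pos_right (e ▸ Nat.card_pos : 0 < a * m)) ?_).trans l
  refine Nat.Coprime.dvd_of_dvd_mul_right ?_ (e ▸ card_subgroup_dvd_card T.1)
  exact hk ▸ (Nat.coprime_two_left.2 hm).pow_left k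

theorem eqv_of_model [Finite G] (a : Sy ι) (b : Sy κ) (c : Le ι κ) (d : Le κ ι) : Eqv G H := fun S => by
  obtain ⟨T, hT⟩ := a
  obtain ⟨g, rfl⟩ := MulAction.exists_smul_eq G T S
  let e := (MulAut.conj g).toMonoidHom.comp ι
  have m : ∀ x, e x ∈ (g • T : Sylow 2 G) := fun x => ⟨ι x, show ι x ∈ (T : Subgroup G) from hT ▸ ⟨x, rfl⟩, rfl⟩
  have s : Function.Surjective (e.codRestrict _ m) := by
    rintro ⟨_, x, hx, rfl⟩
    obtain ⟨x, rfl⟩ : x ∈ ι.range := hT ▸ hx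
    exact ⟨x, rfl⟩
  have l := (Le.map' ι (MulAut.conj g)).trans c
  let μ := (e.codRestrict _ m).liftOfSurjective s ⟨κ, fun x hx => l.ker (congrArg Subtype.val hx)⟩
  have u : μ.comp (e.codRestrict _ m) = κ := MonoidHom.liftOfRightInverse_comp ..
  obtain ⟨U, hU⟩ := b
  exact ⟨μ, ⟨U, by rw [hU, ← u, MonoidHom.range_comp, MonoidHom.range_eq_top.2 s, ← MonoidHom.range_eq_map]⟩,
    .of_surj s (u ▸ l), .of_surj s (u ▸ d.trans (.map ι (MulAut.conj g).toMonoidHom))⟩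

theorem Eqv.symm [Finite H] (h : Eqv G H) : Eqv H G :=
  let ⟨_, a, b, c⟩ := h default; eqv_of_model a (sy_subtype _) c b

theorem Eqv.transfer [Finite G] (h : Eqv G H) (hM : IsPGroup 2 M) (ι : M →* G) : ∃ κ : M →* H, Le ι κ ∧ Le κ ι ∧
    (Sy ι → Sy κ) := by
  obtain ⟨S, hS⟩ := (hM.of_surjective _ ι.rangeRestrict_surjective).exists_le_sylow
  obtain ⟨μ, a, b, c⟩ := h S
  let f := ι.codRestrict _ fun x => hS ⟨x, rfl⟩
  refine ⟨μ.comp f, b.comp f, c.comp f, fun ⟨T, hT⟩ => a.comp fun x => ?_⟩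
  obtain ⟨y, hy⟩ : x.1 ∈ ι.range := hT ▸ (T.3 S.2 (hT ▸ hS)) ▸ x.2
  exact ⟨y, Subtype.ext hy⟩

theorem Eqv.trans [Finite G] [Finite H] (a : Eqv G H) (b : Eqv H K) : Eqv G K := fun S =>
  let ⟨κ, a1, a2, a3⟩ := a S
  let ⟨μ, b1, b2, b3⟩ := b.transfer S.2 κ
  ⟨μ, b3 a1, a2.trans b1, b2.trans a3⟩

theorem Eqv.of_equiv [Finite G] (e : G ≃* H) : Eqv G H := fun S =>
  ⟨_, (sy_subtype S).map e.surjective, .map _ _, .map' _ e⟩

theorem Eqv.card [Finite G] [Finite H] (h : Eqv G H) :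
    (Nat.card G).factorization 2 = (Nat.card H).factorization 2 := by
  obtain ⟨κ, ⟨T, hT⟩, -, c⟩ := h default
  have i : Function.Injective κ := (injective_iff_map_eq_one _).2 fun x hx => Subtype.ext (c.ker hx)
  have := Nat.card_congr (MonoidHom.ofInjective i).toEquiv
  rw [← hT, Sylow.card_eq_multiplicity, Sylow.card_eq_multiplicity] at this
  exact Nat.pow_right_injective le_rfl this

/-- Alperin's fusion theorem: it is enough to match the elements of odd order normalizing a subgroup. -/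
theorem Le.of_odd [Finite G] (a : Sy ι) (k : ∀ x, ι x = 1 → κ x = 1)
    (h : ∀ (P : Subgroup M) (g : G), Odd (orderOf g) → (∀ x ∈ P, ∃ y ∈ P, ι y = g * ι x * g⁻¹) →
      ∃ h : H, ∀ x ∈ P, ∀ y, ι y = g * ι x * g⁻¹ → κ y = h * κ x * h⁻¹) : Le ι κ := fun g => by
  obtain ⟨S, hS⟩ := a
  have k' : ∀ {x y}, ι x = ι y → κ x = κ y := fun {x y} e => by
    rw [← mul_inv_eq_one, ← map_inv, ← map_mul]
    exact k _ (by simp [e])
  let R : Subgroup G → G → Prop := fun T g => ∃ h : H, ∀ x y, ι x ∈ T → ι y = g * ι x * g⁻¹ → κ y = h * κ x * h⁻¹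
  have c : ∀ (T : Subgroup G) (g h : G), g ⋆ T ≤ S → R T g → R (g ⋆ T) h → R T (h * g) := by
    rintro T g h l ⟨u, hu⟩ ⟨v, hv⟩
    refine ⟨v * u, fun x y hx e => ?_⟩
    have m : g * ι x * g⁻¹ ∈ g ⋆ T := ⟨_, hx, rfl⟩
    obtain ⟨z, hz⟩ : g * ι x * g⁻¹ ∈ ι.range := hS ▸ l m
    rw [hv z y (hz ▸ m) (by rw [e, hz]; group), hu x z hx hz]
    group
  obtain ⟨u, hu⟩ := alperin_induction S R (fun _ _ _ l _ _ ⟨u, hu⟩ => ⟨u, fun x y hx => hu x y (l hx)⟩)
    (fun T g h _ l _ => c T g h l) (fun T x l n hx _ _ => by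
      obtain ⟨s, hs, o, ho, rfl⟩ := exists_mul_pResidual inf_le_right n hx
      have nm : ∀ {g}, g ∈ normalizer (T : Set G) → g ⋆ T = T := fun hg => conj_eq_self_iff.2 hg
      let Q : Subgroup G :=
        { carrier := {g | g ∈ normalizer (T : Set G) ∧ R T g}
          one_mem' := ⟨one_mem _, 1, fun x y _ e => by simpa using k' (by simpa using e)⟩
          mul_mem' := fun ⟨a1, a2⟩ ⟨b1, b2⟩ =>
            ⟨mul_mem a1 b1, c _ _ _ ((nm b1).le.trans l) b2 ((nm b1).symm ▸ a2)⟩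
          inv_mem' := fun ⟨a, u, hu⟩ => ⟨inv_mem a, u⁻¹, fun x y hx e => by
            rw [hu y x (e ▸ (mem_normalizer_iff.1 (inv_mem a) _).1 hx) (by rw [e]; group)]; group⟩ }
      have : o ∈ Q := (map_subtype_pResidual_le_iff (K := Q)).2 (fun g hg hc => ⟨hg, by
        obtain ⟨u, hu⟩ := h (T.comap ι) g (Nat.coprime_two_right.1 hc) fun x hx => by
          have m : g * ι x * g⁻¹ ∈ T := (mem_normalizer_iff.1 hg _).1 hx
          obtain ⟨z, hz⟩ : g * ι x * g⁻¹ ∈ ι.range := hS ▸ l m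
          exact ⟨z, show ι z ∈ T from hz ▸ m, hz⟩
        exact ⟨u, fun x y hx => hu x hx y⟩⟩) ho
      obtain ⟨t, rfl⟩ : s ∈ ι.range := hS ▸ hs.1
      exact c _ _ _ ((nm this.1).le.trans l) this.2 ⟨κ t, fun x y _ e => by
        simpa using k' (x := y) (y := t * x * t⁻¹) (by simpa using e)⟩)
    ((S : Subgroup G) ⊓ g⁻¹ ⋆ (S : Subgroup G)) g inf_le_left (conj_le_iff_le_inv_conj.2 inf_le_right)
  exact ⟨u, fun x y e => hu x y ⟨hS ▸ ⟨x, rfl⟩, ι y, hS ▸ (⟨y, rfl⟩ : ι y ∈ ι.range), by simp [e, mul_assoc]⟩ e⟩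

/-- Passing to central quotients. -/
theorem Le.quot [Finite G] {G' H' : Type*} [Group G'] [Group H'] (a : Sy ι) (l : Le ι κ) {π : G →* G'} {π' : H →* H'}
    (s : Function.Surjective π) (z : π.ker ≤ center G) (k : ∀ x, π (ι x) = 1 → π' (κ x) = 1) :
    Le (π.comp ι) (π'.comp κ) := fun g => by
  obtain ⟨g, rfl⟩ := s g
  obtain ⟨S, hS⟩ := a
  obtain ⟨h, e⟩ := l g
  refine ⟨π' h, fun x y u => ?_⟩
  have m : ∀ x, ι x ∈ (S : Subgroup G) := fun x => hS ▸ ⟨x, rfl⟩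
  have p : ∀ x, ∃ i, ι x ^ 2 ^ i = 1 := fun x => let ⟨i, hi⟩ := S.2 ⟨_, m x⟩; ⟨i, congrArg Subtype.val hi⟩
  set c := (ι y)⁻¹ * (g * ι x * g⁻¹) with hc
  have c1 : π c = 1 := by simpa [hc, inv_mul_eq_one] using u
  have c2 := mem_center_iff.1 (z c1)
  have c3 : IsPGroup 2 (zpowers c) := by
    obtain ⟨i, hi⟩ := p x
    obtain ⟨j, hj⟩ := p y
    have : (ι y * c) ^ 2 ^ (i + j) = 1 := by rw [hc, mul_inv_cancel_left, conj_pow, pow_add, pow_mul, hi]; simp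
    rw [Commute.mul_pow (c2 _), pow_add, mul_comm (2 ^ i), pow_mul, hj, one_pow, one_mul, ← pow_add] at this
    exact IsPGroup.iff_orderOf.2 fun ⟨_, n, rfl⟩ => (Nat.dvd_prime_pow Nat.prime_two).1 (orderOf_dvd_of_pow_eq_one
      (Subtype.ext (by rw [coe_pow, ← zpow_natCast, ← zpow_mul, mul_comm, zpow_mul, zpow_natCast, this]; simp))) |>.imp
        fun _ h => h.2
  have : (zpowers c).Normal := ⟨fun _ ⟨n, e⟩ g => ⟨n, by
    rw [← e, ← conj_zpow, c2 g, mul_inv_cancel_right]⟩⟩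
  obtain ⟨w, hw⟩ : c ∈ ι.range := hS ▸ c3.le_sylow_of_normal S (mem_zpowers c)
  have := congrArg π' (e x (y * w) (by rw [map_mul, hw, hc, mul_inv_cancel_left]))
  simpa [k w (hw ▸ c1)] using this

theorem realized_iff {S : Subgroup G} {κ : S →* H} :
    (groupFusionSystem S).IsRealizedBy κ ↔ Le S.subtype κ ∧ Le κ S.subtype := by
  refine ⟨fun ⟨i, h⟩ => ⟨fun g => ?_, fun g => ?_⟩, fun ⟨a, b⟩ => ⟨(injective_iff_map_eq_one _).2 fun x hx =>
    Subtype.ext (b.ker hx), fun P hP φ hφ => ⟨fun ⟨_, _, g, hg⟩ => ?_, fun ⟨g, hg⟩ => ⟨hP, hφ, ?_⟩⟩⟩⟩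
  · let φ : ↥(S ⊓ g⁻¹ ⋆ S) →* G := (MulAut.conj g).toMonoidHom.comp (Subgroup.subtype _)
    have m : ∀ x, φ x ∈ S := fun x => conj_le_iff_le_inv_conj.2 inf_le_right ⟨x.1, x.2, rfl⟩
    obtain ⟨u, hu⟩ := (h _ inf_le_left φ m).1 ⟨inf_le_left, m, g, fun _ => rfl⟩
    refine ⟨u, fun x y e => ?_⟩
    have := hu ⟨x, x.2, y, y.2, by simp [show (y : G) = _ from e, mul_assoc]⟩
    rwa [show (⟨φ _, _⟩ : S) = y from Subtype.ext e.symm] at this
  · let Q : Subgroup S := (g⁻¹ ⋆ κ.range).comap κ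
    have m : ∀ x : Q, g * κ x * g⁻¹ ∈ κ.range := fun x => by
      obtain ⟨y, hy, e⟩ := x.2
      exact (show y = g * κ x * g⁻¹ by simp [← show _ = κ x from e, mul_assoc]) ▸ hy
    let ψ : Q →* S := (MonoidHom.ofInjective i).symm.toMonoidHom.comp
      (((MulAut.conj g).toMonoidHom.comp (κ.comp Q.subtype)).codRestrict _ m)
    have hψ : ∀ x, κ (ψ x) = g * κ x * g⁻¹ := fun x => MonoidHom.apply_ofInjective_symm i _
    let φ := S.subtype.comp (ψ.comp (Q.equivMapOfInjective _ S.subtype_injective).symm.toMonoidHom)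
    obtain ⟨-, -, u, hu⟩ := (h _ (map_subtype_le Q) φ fun x => Subtype.prop _).2 ⟨g, fun x => by
      obtain ⟨x, rfl⟩ := (Q.equivMapOfInjective _ S.subtype_injective).surjective x
      refine (hψ _).trans ?_
      simp only [MulEquiv.toMonoidHom_eq_coe, MonoidHom.coe_coe, MulEquiv.symm_apply_apply]
      rfl⟩
    refine ⟨u, fun x y e => ?_⟩
    have hx : x ∈ Q := ⟨κ y, ⟨y, rfl⟩, by simp [e, mul_assoc]⟩
    have := hu (Q.equivMapOfInjective _ S.subtype_injective ⟨x, hx⟩)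
    rw [show y = ψ ⟨x, hx⟩ from i (e.trans (hψ ⟨x, hx⟩).symm)]
    simpa [φ] using this
  · exact let ⟨u, hu⟩ := a g; ⟨u, fun x => hu _ _ (hg x)⟩
  · exact let ⟨u, hu⟩ := b g; ⟨u, fun x => hu _ _ (hg x)⟩

theorem eqv_iff [Finite G] (S : Sylow 2 G) : (∃ κ : S →* H, (groupFusionSystem (S : Subgroup G)).IsRealizedBy κ ∧
    ∃ T : Sylow 2 H, (T : Subgroup H) = κ.range) ↔ Eqv G H :=
  ⟨fun ⟨_, a, b⟩ => eqv_of_model (sy_subtype S) b (realized_iff.1 a).1 (realized_iff.1 a).2,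
    fun h => let ⟨κ, a, b⟩ := h S; ⟨κ, realized_iff.2 b, a⟩⟩

end Cfsg.Lib.FL
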