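import Mathlib

/-! Conjugacy in `GL` of two matrix representations of a finite group that are defined over a domain does not depend
on the finite residue field (of characteristic prime to the group order). -/

set_option autoImplicit false

namespace Cfsg.Lib.FL

open Module Matrix Polynomial
open scoped Kronecker

universe u

section Count

variable {A : Type*} [Ring A]

/-- The number of homomorphisms. -/
noncomputable abbrev hc (A : Type*) [Ring A] (V W : Type*) [AddCommGroup V] [Module A V] [AddCommGroup W]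
    [Module A W] : ℕ := Nat.card (V →ₗ[A] W)

variable {V W V' W' C : Type*} [AddCommGroup V] [Module A V] [AddCommGroup W] [Module A W] [AddCommGroup V']
  [Module A V'] [AddCommGroup W'] [Module A W'] [AddCommGroup C] [Module A C]

theorem hc_congr (e : V ≃ₗ[A] V') (f : W ≃ₗ[A] W') : hc A V W = hc A V' W' :=
  Nat.card_congr ⟨fun g => f.toLinearMap ∘ₗ g ∘ₗ e.symm.toLinearMap, fun g => f.symm.toLinearMap ∘ₗ g ∘ₗ e.toLinearMap,
    fun g => by ext; simp, fun g => by ext; simp⟩

theorem hc_prod : hc A (C × V) (V' × W) = hc A C V' * hc A C W * (hc A V V' * hc A V W) := by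
  rw [hc, ← Nat.card_congr (LinearMap.coprodEquiv ℕ).toEquiv, Nat.card_prod,
    ← Nat.card_congr (LinearMap.prodEquiv ℕ).toEquiv, ← Nat.card_congr (LinearMap.prodEquiv ℕ).toEquiv, Nat.card_prod,
    Nat.card_prod]

theorem hc_pos [Finite V] [Finite W] : 0 < hc A V W :=
  have : Finite (V →ₗ[A] W) := .of_injective _ DFunLike.coe_injective
  Nat.card_pos

theorem iso_of_hc_aux (n : ℕ) : ∀ (V W : Type u) [AddCommGroup V] [Module A V] [AddCommGroup W] [Module A W]
    [Finite V] [Finite W] [IsSemisimpleModule A V] [IsSemisimpleModule A W], Nat.card V + Nat.card W = n →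
    hc A V V * hc A W W = hc A V W * hc A W V → Nonempty (V ≃ₗ[A] W) := by
  induction n using Nat.strong_induction_on with | _ n ih => ?_
  have step : ∀ (V W : Type u) [AddCommGroup V] [Module A V] [AddCommGroup W] [Module A W]
      [Finite V] [Finite W] [IsSemisimpleModule A V] [IsSemisimpleModule A W], Nat.card V + Nat.card W = n →
      hc A V V * hc A W W = hc A V W * hc A W V → ∀ f : V →ₗ[A] W, f ≠ 0 → Nonempty (V ≃ₗ[A] W) := by
    intro V W _ _ _ _ _ _ _ _ hn h f hf
    obtain ⟨C, hC⟩ := exists_isCompl (LinearMap.ker f)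
    obtain ⟨D, hD⟩ := exists_isCompl (LinearMap.range f)
    let e : C ≃ₗ[A] LinearMap.range f := (Submodule.quotientEquivOfIsCompl _ _ hC).symm.trans f.quotKerEquivRange
    let eV : V ≃ₗ[A] C × LinearMap.ker f := (Submodule.prodEquivOfIsCompl _ _ hC.symm).symm
    let eW : W ≃ₗ[A] C × D := (Submodule.prodEquivOfIsCompl _ _ hD).symm.trans (e.symm.prodCongr (.refl _ _))
    have h1 : 1 < Nat.card C := by
      rw [Finite.one_lt_card_iff_nontrivial, Submodule.nontrivial_iff_ne_bot]
      rintro rfl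
      exact hf (LinearMap.ker_eq_top.1 (by simpa using hC.sup_eq_top))
    have cV := Nat.card_congr eV.toEquiv
    have cW := Nat.card_congr eW.toEquiv
    rw [Nat.card_prod] at cV cW
    rw [hc_congr eV eV, hc_congr eW eW, hc_congr eV eW, hc_congr eW eV, hc_prod, hc_prod, hc_prod, hc_prod] at h
    have p1 : 0 < Nat.card (LinearMap.ker f) := Nat.card_pos
    have p2 : 0 < Nat.card D := Nat.card_pos
    have p3 : 0 < hc A C C * hc A C C * hc A C (LinearMap.ker f) * hc A (LinearMap.ker f) C * hc A C D * hc A D C :=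
      Nat.mul_pos (Nat.mul_pos (Nat.mul_pos (Nat.mul_pos (Nat.mul_pos hc_pos hc_pos) hc_pos) hc_pos) hc_pos) hc_pos
    obtain ⟨g⟩ := ih _ (by nlinarith) (LinearMap.ker f) D rfl (Nat.eq_of_mul_eq_mul_left p3 (by linarith))
    exact ⟨eV.trans (((LinearEquiv.refl A C).prodCongr g).trans eW.symm)⟩
  intro V W _ _ _ _ _ _ _ _ hn h
  by_cases h1 : ∃ f : V →ₗ[A] W, f ≠ 0
  · exact let ⟨f, hf⟩ := h1; step V W hn h f hf
  by_cases h2 : ∃ f : W →ₗ[A] V, f ≠ 0
  · exact let ⟨f, hf⟩ := h2; ⟨(step W V (by omega) (by linarith) f hf).some.symm⟩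
  push Not at h1 h2
  have a : hc A V W = 1 := Nat.card_eq_one_iff_exists.2 ⟨0, h1⟩
  have b : hc A W V = 1 := Nat.card_eq_one_iff_exists.2 ⟨0, h2⟩
  rw [a, b] at h
  have s1 := (Nat.card_eq_one_iff_unique.1 (Nat.eq_one_of_mul_eq_one_right h)).1
  have s2 := (Nat.card_eq_one_iff_unique.1 (Nat.eq_one_of_mul_eq_one_left h)).1
  exact ⟨.ofLinearMap 0 0 (Subsingleton.elim _ _) (Subsingleton.elim _ _)⟩

end Count

variable {R k : Type*} [CommRing R] [Field k] {κ ι P : Type*} [Fintype κ] [DecidableEq κ] [Fintype ι] [DecidableEq ι]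
  [Group P] [Finite P]

theorem quasi_idem {A : Matrix κ κ k} {c : k} (hc : c ≠ 0) (h : A * A = c • A) :
    finrank k (End.eigenspace (toLin' A) c) = A.charpoly.rootMultiplicity c ∧
      A.charpoly.rootMultiplicity 0 + A.charpoly.rootMultiplicity c = Fintype.card κ := by
  have a := LinearMap.finrank_eigenspace_le (toLin' A) 0
  have b := LinearMap.finrank_eigenspace_le (toLin' A) c
  have d := Submodule.finrank_add_finrank_le_of_disjoint (End.disjoint_genEigenspace (toLin' A) hc.symm ⊤ ⊤)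
  have e := Submodule.finrank_add_le_finrank_add_finrank (End.eigenspace (toLin' A) 0) (End.eigenspace (toLin' A) c)
  have t : End.eigenspace (toLin' A) 0 ⊔ End.eigenspace (toLin' A) c = ⊤ := eq_top_iff.2 fun v _ =>
    Submodule.mem_sup.2 ⟨v - c⁻¹ • A *ᵥ v, by
      simp [End.mem_eigenspace_iff, mulVec_sub, mulVec_smul, h, smul_mulVec, smul_smul, hc],
      c⁻¹ • A *ᵥ v, by simp [End.mem_eigenspace_iff, mulVec_smul, h, smul_mulVec, smul_smul, hc], by simp⟩
  change finrank k (End.maxGenEigenspace _ _) + finrank k (End.maxGenEigenspace _ _) ≤ _ at d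
  rw [LinearMap.finrank_maxGenEigenspace_eq, LinearMap.finrank_maxGenEigenspace_eq] at d
  rw [t, finrank_top] at e
  rw [charpoly_toLin'] at a b d
  rw [finrank_fintype_fun_eq_card] at d e
  omega

/-- The fixed vectors of a matrix representation. -/
def fx (τ : P →* Matrix κ κ k) : Submodule k (κ → k) := ⨅ x, End.eigenspace (toLin' (τ x)) 1

theorem mem_fx {τ : P →* Matrix κ κ k} {v : κ → k} : v ∈ fx τ ↔ ∀ x, τ x *ᵥ v = v := by
  simp [fx, End.mem_eigenspace_iff]

/-- Base change of a matrix representation. -/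
def mp {S : Type*} [CommRing S] (π : R →+* S) (τ : P →* Matrix κ κ R) : P →* Matrix κ κ S :=
  π.mapMatrix.toMonoidHom.comp τ

theorem finrank_fx [IsDomain R] [Fintype P] (τ : P →* Matrix κ κ R) (π : R →+* k) (hc : (Nat.card P : k) ≠ 0) :
    finrank k (fx (mp π τ)) = (∑ x, τ x).charpoly.rootMultiplicity (Nat.card P : R) := by
  set A := ∑ x, τ x with hA
  have m : ∀ x, τ x * A = A := fun x => by
    rw [hA, Finset.mul_sum]
    exact Fintype.sum_equiv (Equiv.mulLeft x) _ _ fun y => by simp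
  have h : A * A = (Nat.card P : R) • A := by
    conv_lhs => rw [hA, Finset.sum_mul]
    simp only [← hA, m, Finset.sum_const, Finset.card_univ, Nat.card_eq_fintype_card, Nat.cast_smul_eq_nsmul]
  have q : ∀ {k : Type _} [Field k] (π : R →+* k), A.map π * A.map π = (Nat.card P : k) • A.map π := fun π => by
    rw [← Matrix.map_mul, h, Matrix.map_smul' _ _ _ (map_mul π), map_natCast]
  have h0 : (Nat.card P : FractionRing R) ≠ 0 := by
    rw [← map_natCast (algebraMap R _), map_ne_zero_iff _ (IsFractionRing.injective R _)]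
    exact fun e => hc (by rw [← map_natCast π, e, map_zero])
  obtain ⟨a, b⟩ := quasi_idem hc (by rw [← Matrix.map_mul, h, Matrix.map_smul' _ _ _ (map_mul π), map_natCast] :
    A.map π * A.map π = (Nat.card P : k) • A.map π)
  obtain ⟨-, c⟩ := quasi_idem h0 (q (algebraMap R _))
  have z : A.charpoly.map π ≠ 0 := (A.charpoly_monic.map π).ne_zero
  have l1 := le_rootMultiplicity_map z 0
  have l2 := le_rootMultiplicity_map z (Nat.card P)
  have e1 := eq_rootMultiplicity_map (p := A.charpoly) (IsFractionRing.injective R (FractionRing R)) 0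
  have e2 := eq_rootMultiplicity_map (p := A.charpoly) (IsFractionRing.injective R (FractionRing R)) (Nat.card P)
  rw [map_zero] at l1 e1
  rw [map_natCast] at l2 e2
  rw [charpoly_map] at a b c
  have : fx (mp π τ) = End.eigenspace (toLin' (A.map π)) (Nat.card P) := by
    ext v
    rw [mem_fx, End.mem_eigenspace_iff, toLin'_apply]
    refine ⟨fun hv => ?_, fun hv x => smul_right_injective _ hc ?_⟩
    · have : A.map π = ∑ x, (mp π τ) x := map_sum π.mapMatrix _ _
      simp [this, sum_mulVec, hv, ← Nat.cast_smul_eq_nsmul k]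
    · change (Nat.card P : k) • ((τ x).map π *ᵥ v) = (Nat.card P : k) • v
      rw [← mulVec_smul, ← hv, mulVec_mulVec, ← Matrix.map_mul, m]
  rw [this]
  omega

/-- The representation on `Hom`. -/
def kr (ρ σ : P →* Matrix ι ι R) : P →* Matrix (ι × ι) (ι × ι) R where
  toFun x := (ρ x⁻¹)ᵀ ⊗ₖ σ x
  map_one' := by simp
  map_mul' x y := by rw [← mul_kronecker_mul, ← transpose_mul, ← map_mul, ← map_mul, _root_.mul_inv_rev]

omit [Finite P] in
theorem kr_mp (π : R →+* k) (a b : P →* Matrix ι ι R) : kr (mp π a) (mp π b) = mp π (kr a b) := by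
  ext x i j; simp [kr, mp]

/-- The representation on column vectors. -/
noncomputable def rp (ρ : P →* Matrix ι ι k) : Representation k P (ι → k) :=
  (toLinAlgEquiv' : Matrix ι ι k ≃ₐ[k] _).toMonoidHom.comp ρ

theorem hc_rp [Finite k] (ρ σ : P →* Matrix ι ι k) :
    hc (MonoidAlgebra k P) (rp ρ).asModule (rp σ).asModule = Nat.card k ^ finrank k (fx (kr ρ σ)) := by
  rw [hc, ← Nat.card_congr (Representation.IntertwiningMap.equivLinearMapAsModule _ _).toEquiv,
    ← Module.natCard_eq_pow_finrank]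
  have key : ∀ X : Matrix ι ι k, X.vec ∈ fx (kr ρ σ) ↔ ∀ x, toLin' X ∘ₗ rp ρ x = rp σ x ∘ₗ toLin' X := fun X => by
    refine mem_fx.trans (forall_congr' fun x => ?_)
    change ((ρ x⁻¹)ᵀ ⊗ₖ σ x) *ᵥ X.vec = _ ↔ toLin' X ∘ₗ toLin' (ρ x) = toLin' (σ x) ∘ₗ toLin' X
    rw [kronecker_mulVec_vec, transpose_transpose, vec_inj, ← toLin'_mul, ← toLin'_mul, toLin'.injective.eq_iff]
    refine ⟨fun e => ?_, fun e => ?_⟩
    · conv_lhs => rw [← e, mul_assoc, ← map_mul, inv_mul_cancel, map_one, mul_one]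
    · rw [← e, mul_assoc, ← map_mul, mul_inv_cancel, map_one, mul_one]
  refine Nat.card_eq_of_bijective (fun f => ⟨(LinearMap.toMatrix' f.toLinearMap).vec, (key _).2 fun x => by
    simpa using f.2 x⟩) ⟨fun f g e => Representation.IntertwiningMap.ext (LinearMap.toMatrix'.injective
      (vec_inj.1 (congrArg Subtype.val e))), fun v => ?_⟩
  obtain ⟨X, hX⟩ := vec_bijective.2 v.1
  exact ⟨⟨toLin' X, (key X).1 (hX ▸ v.2)⟩, Subtype.ext (by simpa using hX)⟩

/-- Two matrix representations are conjugate. -/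
def Cj (ρ σ : P →* Matrix ι ι k) : Prop := ∃ g : GL ι k, ∀ x, σ x * g = g * ρ x

theorem cj_iff {ρ σ : P →* Matrix ι ι k} :
    Cj ρ σ ↔ Nonempty ((rp ρ).asModule ≃ₗ[MonoidAlgebra k P] (rp σ).asModule) := by
  refine ⟨fun ⟨g, hg⟩ => ⟨.ofBijective (Representation.IntertwiningMap.equivLinearMapAsModule _ _
    ⟨toLin' g.1, fun x => ?_⟩) (GeneralLinearGroup.toLin g).toLinearEquiv.bijective⟩, fun ⟨e⟩ => ?_⟩
  · change toLin' g.1 ∘ₗ toLin' (ρ x) = toLin' (σ x) ∘ₗ toLin' g.1
    rw [← toLin'_mul, ← toLin'_mul, hg]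
  · let f := (Representation.IntertwiningMap.equivLinearMapAsModule _ _).symm e.toLinearMap
    have : IsUnit (LinearMap.toMatrix' f.toLinearMap) := by
      rw [← isUnit_toLin'_iff, toLin'_toMatrix', End.isUnit_iff]
      exact e.bijective
    refine ⟨this.unit, fun x => toLin'.injective ?_⟩
    rw [toLin'_mul, toLin'_mul, IsUnit.unit_spec, toLin'_toMatrix']
    exact (f.2 x).symm

theorem Cj.change [IsDomain R] {k' : Type*} [Field k'] [Finite k] [Finite k'] (π : R →+* k) (π' : R →+* k')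
    (h : (Nat.card P : k) ≠ 0) (h' : (Nat.card P : k') ≠ 0) {ρ σ : P →* Matrix ι ι R}
    (e : Cj (mp π ρ) (mp π σ)) :
    Cj (mp π' ρ) (mp π' σ) := by
  have := Fintype.ofFinite P
  obtain ⟨f⟩ := cj_iff.1 e
  have a := (hc_congr (.refl _ _) f : hc _ (rp (mp π ρ)).asModule _ = _)
  have b := (hc_congr f (.refl _ _) : hc _ _ (rp (mp π σ)).asModule = _)
  have c := (hc_congr f (.refl _ _) : hc _ _ (rp (mp π ρ)).asModule = _)
  have : NeZero (Nat.card P : k') := ⟨h'⟩
  have : Finite (rp (mp π' ρ)).asModule := inferInstanceAs (Finite (ι → k'))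
  have : Finite (rp (mp π' σ)).asModule := inferInstanceAs (Finite (ι → k'))
  refine cj_iff.2 (iso_of_hc_aux _ _ _ rfl ?_)
  rw [hc_rp, hc_rp, kr_mp, kr_mp, finrank_fx _ π h, finrank_fx _ π h,
    (Nat.pow_right_injective (Finite.one_lt_card (α := k))).eq_iff] at a b c
  rw [hc_rp, hc_rp, hc_rp, hc_rp, kr_mp, kr_mp, kr_mp, kr_mp, finrank_fx _ π' h', finrank_fx _ π' h', finrank_fx _ π' h',
    finrank_fx _ π' h', ← b, ← a, ← c]

end Cfsg.Lib.FL
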