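import Cfsg.Agent.Lib.FL.Over

/-! Monomial models of the Sylow 2-subgroups of the linear and unitary groups of degree at most five. -/

set_option autoImplicit false

namespace Cfsg.Lib.FL

open Subgroup Equiv Polynomial

/-- Monomial matrices. -/
@[ext] structure W (ι A : Type*) where
  d : ι → A
  τ : Perm ι

variable {ι A B R : Type*} [CommGroup A] [CommGroup B] [CommRing R]

instance W.grp : Group (W ι A) where
  mul a b := ⟨fun j => a.d (b.τ j) * b.d j, a.τ * b.τ⟩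
  one := ⟨1, 1⟩
  inv a := ⟨fun j => (a.d (a.τ⁻¹ j))⁻¹, a.τ⁻¹⟩
  mul_assoc _ _ _ := W.ext (funext fun _ => (mul_assoc ..)) (mul_assoc ..)
  one_mul _ := W.ext (funext fun _ => one_mul _) (one_mul _)
  mul_one _ := W.ext (funext fun _ => mul_one _) (mul_one _)
  inv_mul_cancel a := W.ext (funext fun j => show (a.d (a.τ⁻¹ (a.τ j)))⁻¹ * a.d j = 1 by simp) (inv_mul_cancel _)

@[simp] theorem W.mul_d (a b : W ι A) (j : ι) : (a * b).d j = a.d (b.τ j) * b.d j := rfl
@[simp] theorem W.mul_τ (a b : W ι A) : (a * b).τ = a.τ * b.τ := rfl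
@[simp] theorem W.one_d (j : ι) : (1 : W ι A).d j = 1 := rfl
@[simp] theorem W.one_τ : (1 : W ι A).τ = 1 := rfl
@[simp] theorem W.inv_d (a : W ι A) (j : ι) : a⁻¹.d j = (a.d (a.τ⁻¹ j))⁻¹ := rfl
@[simp] theorem W.inv_τ (a : W ι A) : a⁻¹.τ = a.τ⁻¹ := rfl

theorem W.pow_τ (a : W ι A) (k : ℕ) : (a ^ k).τ = a.τ ^ k := by
  induction k with
  | zero => rfl
  | succ k ih => rw [pow_succ, mul_τ, ih, pow_succ]

theorem W.pow_d {a : W ι A} (h : a.τ = 1) (k : ℕ) (j : ι) : (a ^ k).d j = a.d j ^ k := by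
  induction k with
  | zero => simp
  | succ k ih => rw [pow_succ, mul_d, h, Perm.one_apply, ih, pow_succ]

instance W.fin [Finite ι] [Finite A] : Finite (W ι A) :=
  .of_injective (fun m => (m.d, m.τ)) fun _ _ e => W.ext (congrArg Prod.fst e) (congrArg Prod.snd e)

/-- The fixed points of the twisted Frobenius map with permutation part centralizing `ω`. -/
def M0 (A : Type*) [CommGroup A] (σ : ℤ) (ω : Perm ι) (b : ℕ) : Subgroup (W ι A) where
  carrier := {m | Commute m.τ ω ∧ ∀ j, m.d ((ω ^ b) j) = m.d j ^ σ}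
  one_mem' := ⟨.one_left _, fun _ => (one_zpow _).symm⟩
  mul_mem' := fun {x y} hx hy => ⟨hx.1.mul_left hy.1, fun j => by
    rw [W.mul_d, W.mul_d, mul_zpow, ← hx.2, ← hy.2, ← Perm.mul_apply, (hy.1.pow_right b).eq, Perm.mul_apply]⟩
  inv_mem' := fun {x} hx => ⟨hx.1.inv_left, fun j => by
    rw [W.inv_d, W.inv_d, inv_zpow, ← hx.2, ← Perm.mul_apply, (hx.1.inv_left.pow_right b).eq, Perm.mul_apply]⟩

theorem M0.card_ge [Finite ι] [Finite A] {σ : ℤ} {ω : Perm ι} {b : ℕ} {X : Type*} (f : X → ι → A) (hf : Function.Injective f)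
    (h : ∀ x j, f x ((ω ^ b) j) = f x j ^ σ) : Nat.card X * Nat.card {τ // τ * ω = ω * τ} ≤ Nat.card (M0 A σ ω b) := by
  rw [← Nat.card_prod]
  exact Nat.card_le_card_of_injective (fun x => ⟨⟨f x.1, x.2⟩, x.2.2, h x.1⟩) fun x y e =>
    Prod.ext (hf (congrArg (·.1.d) e)) (Subtype.ext (congrArg (·.1.τ) e))

variable [Fintype ι] [DecidableEq ι]

/-- An involution whose centralizer is a Sylow 2-subgroup of the symmetric group. -/
structure Om (ω : Perm ι) : Prop where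
  sq : ω * ω = 1
  p4 : ∀ τ, τ * ω = ω * τ → τ ^ 4 = 1
  inv : ∃ (S : Finset ι) (l : ℕ), S.card = 2 ^ l ∧ ∀ τ, τ * ω = ω * τ → ∀ j, τ j ∈ S ↔ j ∈ S

theorem M0.pow {σ : ℤ} {ω : Perm ι} {b c : ℕ} (h : Om ω) {x : W ι A} (hx : x ∈ M0 A σ ω b)
    (hA : ∀ j, (x ^ 4).d j ^ c = 1) : x ^ (4 * c) = 1 := by
  have e : (x ^ 4).τ = 1 := (W.pow_τ _ _).trans (h.p4 _ hx.1)
  rw [pow_mul]
  exact W.ext (funext fun j => (W.pow_d e _ _).trans (hA j)) (by rw [W.pow_τ, e, one_pow]; rfl)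

theorem M0.pg {σ : ℤ} {ω : Perm ι} {b c : ℕ} (h : Om ω) (hA : ∀ a : A, a ^ 2 ^ c = 1) : IsPGroup 2 (M0 A σ ω b) :=
  fun x => ⟨2 + c, Subtype.ext (by rw [pow_add]; exact M0.pow h x.2 fun _ => hA _)⟩

/-- The monomial matrix. -/
def mn (χ : A →* R) : W ι A →* Matrix ι ι R where
  toFun m := .of fun i j => if i = m.τ j then χ (m.d j) else 0
  map_one' := by ext i j; simp [Matrix.one_apply]
  map_mul' a b := by ext i j; simp [Matrix.mul_apply, ite_and]

theorem mn_apply (χ : A →* R) (m : W ι A) (i j : ι) : mn χ m i j = if i = m.τ j then χ (m.d j) else 0 := rfl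

theorem mp_mn {S : Type*} [CommRing S] (π : R →+* S) (χ : A →* R) :
    mp π (mn χ : W ι A →* _) = mn (π.toMonoidHom.comp χ) := by
  ext m i j
  simp [mp, mn_apply, apply_ite π]

theorem mn_eq_smul [Nontrivial R] {χ : A →* R} {m : W ι A} {a : R} (h : mn χ m = a • 1) : m.τ = 1 ∧ ∀ j, χ (m.d j) = a := by
  have k : ∀ j, m.τ j = j ∧ χ (m.d j) = a := fun j => by
    have := congrFun₂ h (m.τ j) j
    rw [mn_apply, if_pos rfl, Matrix.smul_apply, Matrix.one_apply] at this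
    by_cases e : m.τ j = j
    · exact ⟨e, by simpa [e] using this⟩
    · exact absurd (by simpa [e] using this) ((Group.isUnit _).map χ).ne_zero
  exact ⟨Equiv.ext fun j => (k j).1, fun j => (k j).2⟩

theorem mn_of_const {χ : A →* R} {m : W ι A} {a : R} (h : m.τ = 1) (e : ∀ j, χ (m.d j) = a) : mn χ m = a • 1 := by
  ext i j
  simp [mn_apply, h, e, Matrix.one_apply]

theorem det_mn (χ : A →* R) (m : W ι A) : (mn χ m).det = Perm.sign m.τ * χ (∏ j, m.d j) := by
  have : mn χ m = (Matrix.diagonal fun j => χ (m.d j)).submatrix m.τ.symm id := by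
    ext i j
    simp [mn_apply, Matrix.diagonal_apply, Equiv.symm_apply_eq, Equiv.eq_symm_apply]
    split_ifs with e <;> simp [e]
  rw [this, Matrix.det_permute, Matrix.det_diagonal, map_prod, Perm.sign_symm]

/-- Reduction is injective on the roots of unity of 2-power order. -/
theorem eq_one_of_map [IsDomain R] {k : Type*} [Field k] (π : R →+* k) (h : (2 : k) ≠ 0) {a : ℕ} {y : R}
    (hy : y ^ 2 ^ a = 1) (e : π y = 1) : y = 1 := by
  induction a with
  | zero => simpa using hy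
  | succ a ih =>
    rw [pow_succ, pow_mul, sq, mul_self_eq_one_iff] at hy
    refine ih (hy.resolve_right fun u => h ?_)
    have := congrArg π u
    rw [map_pow, e, one_pow, map_neg, map_one] at this
    linear_combination this

/-- The ring generated by a primitive root of unity. -/
abbrev Rg (c : ℕ) : Type := AdjoinRoot (cyclotomic (2 ^ c) ℤ)

instance Rg.dom (c : ℕ) : IsDomain (Rg c) :=
  AdjoinRoot.isDomain_of_prime (cyclotomic.irreducible (by positivity)).prime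

/-- Its roots of unity of 2-power order. -/
abbrev Mu (c : ℕ) : Type := rootsOfUnity (2 ^ c) (Rg c)

/-- The inclusion. -/
noncomputable def chi (c : ℕ) : Mu c →* Rg c := (Units.coeHom _).comp (Subgroup.subtype _)

theorem Rg.hom {c : ℕ} {k : Type*} [Field k] {z : k} (h : IsPrimitiveRoot z (2 ^ c)) :
    ∃ π : Rg c →+* k, π (AdjoinRoot.root _) = z :=
  ⟨AdjoinRoot.lift (Int.castRingHom k) z (by
    rw [← eval_map, map_cyclotomic_int]; exact h.isRoot_cyclotomic (by positivity)), AdjoinRoot.lift_root _⟩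

theorem Mu.card (c : ℕ) : Nat.card (Mu c) = 2 ^ c := by
  have h := Complex.isPrimitiveRoot_exp (2 ^ c) (by positivity)
  obtain ⟨π, e⟩ := Rg.hom h
  refine IsPrimitiveRoot.card_rootsOfUnity (ζ := AdjoinRoot.root _) ⟨?_, fun l hl => h.2 l (by rw [← e, ← map_pow, hl, map_one])⟩
  have := AdjoinRoot.mk_eq_zero.2 (cyclotomic.dvd_X_pow_sub_one (2 ^ c) ℤ)
  rwa [map_sub, map_pow, map_one, sub_eq_zero] at this

theorem Mu.pow {c : ℕ} (a : Mu c) : a ^ 2 ^ c = 1 := (congrArg (a ^ ·) (Mu.card c).symm).trans pow_card_eq_one'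

theorem chi_inj {c : ℕ} {k : Type*} [Field k] (π : Rg c →+* k) (h : (2 : k) ≠ 0) :
    Function.Injective (π.toMonoidHom.comp (chi c)) := (injective_iff_map_eq_one _).2 fun a e =>
  Subtype.ext (Units.ext (eq_one_of_map π h (a := c) ((map_pow (chi c) a _).symm.trans (by rw [Mu.pow, map_one])) e))

/-- `τ = ± 1 + 2 ^ k * odd`. -/
def Ty (τ : ℤ) (b k : ℕ) : Prop := 2 ≤ k ∧ ∃ u, Odd u ∧ τ = (-1) ^ b + 2 ^ k * u

/-- The exponent of two in the order of the general linear or unitary group. -/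
def ex (n b k : ℕ) : ℕ := (n + 1) / 2 * (if b = 0 then k else 1) + n / 2 * (k + 1) + n / 4

/-- The standard involution. -/
def om : (n : ℕ) → Perm (Fin n)
  | 2 => swap 0 1
  | 3 => swap 0 1
  | 4 => swap 0 1 * swap 2 3
  | 5 => swap 0 1 * swap 2 3
  | _ => 1

theorem om_ok {n : ℕ} (h : 2 ≤ n ∧ n ≤ 5) : Om (om n) := by
  obtain ⟨a, b⟩ := h
  interval_cases n
  exacts [⟨by decide, by decide, Finset.univ, 1, by decide, by simp⟩, ⟨by decide, by decide, {2}, 0, by decide, by decide⟩,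
    ⟨by decide, by decide +kernel, Finset.univ, 2, by decide, by simp⟩,
    ⟨by decide, by decide +kernel, {4}, 0, by decide, by decide +kernel⟩]

theorem om_card {n : ℕ} (h : 2 ≤ n ∧ n ≤ 5) : Nat.card {τ // τ * om n = om n * τ} = 2 ^ (n / 2 + n / 4) := by
  obtain ⟨a, b⟩ := h
  rw [Nat.card_eq_fintype_card]
  interval_cases n <;> decide +kernel

theorem Mu.card_ker {a c : ℕ} (h : a ≤ c) : Nat.card (powMonoidHom (2 ^ a) : Mu c →* Mu c).ker = 2 ^ a := by
  rw [IsCyclic.card_powMonoidHom_ker, Mu.card, Nat.gcd_eq_right (pow_dvd_pow 2 h)]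

/-- The model. -/
noncomputable abbrev Md (n b k : ℕ) : Subgroup (W (Fin n) (Mu (k + 1))) := M0 (Mu (k + 1)) ((-1) ^ b + 2 ^ k) (om n) b

theorem zpow_fix {x : A} {a : ℕ} {σ t : ℤ} (h : x ^ a = 1) (e : σ = 1 + a * t) : x ^ σ = x := by
  rw [e, zpow_add, zpow_mul, zpow_natCast, h, one_zpow, mul_one, zpow_one]

theorem Mu.ss {k : ℕ} (hk : 1 ≤ k) (x : Mu (k + 1)) : (x ^ ((-1) ^ 1 + 2 ^ k : ℤ)) ^ ((-1) ^ 1 + 2 ^ k : ℤ) = x := by
  obtain ⟨k, rfl⟩ := Nat.exists_eq_add_of_le' hk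
  rw [← zpow_mul]
  exact zpow_fix (Mu.pow x) (t := 2 ^ k - 1) (by push_cast; ring)

theorem Md.card {n b k : ℕ} (h : 2 ≤ n ∧ n ≤ 5) (hb : b < 2) (hk : 1 ≤ k) : 2 ^ ex n b k ≤ Nat.card (Md n b k) := by
  have c := om_card h
  obtain ⟨h1, h2⟩ := h
  interval_cases b
  · refine le_trans (le_of_eq ?_) (M0.card_ge (X := Fin n → (powMonoidHom (2 ^ k) : Mu (k + 1) →* _).ker) (fun x j => x j)
      (fun x y e => funext fun j => Subtype.ext (congrFun e j)) fun x j => (zpow_fix (x j).2 (t := 1) (by simp)).symm)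
    rw [c, Nat.card_fun, Mu.card_ker k.le_succ, Nat.card_eq_fintype_card, Fintype.card_fin, ← pow_mul, ← pow_add]
    interval_cases n <;> simp [ex] <;> omega
  have s := Mu.ss hk
  have f : ∀ x : (powMonoidHom (2 ^ 1) : Mu (k + 1) →* _).ker, x.1 = x.1 ^ ((-1) ^ 1 + 2 ^ k : ℤ) := fun x => by
    obtain ⟨k, rfl⟩ := Nat.exists_eq_add_of_le' hk
    exact (zpow_fix x.2 (t := 2 ^ k - 1) (by push_cast; ring)).symm
  have a := Mu.card_ker (a := 1) (c := k + 1) (by omega)
  have m := Mu.card (k + 1)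
  generalize (powMonoidHom (2 ^ 1) : Mu (k + 1) →* _).ker = E at f a
  unfold Md
  generalize ((-1) ^ 1 + 2 ^ k : ℤ) = σ at s f
  interval_cases n
  · refine le_trans (le_of_eq ?_) (M0.card_ge (fun x => ![x, x ^ σ]) (fun x y e => congrFun e 0) fun x j => by
      fin_cases j; exacts [rfl, (s _).symm])
    rw [c, m, ← pow_add]; simp [ex]; omega
  · refine le_trans (le_of_eq ?_) (M0.card_ge (fun x : Mu (k + 1) × E => ![x.1, x.1 ^ σ, x.2])
      (fun x y e => Prod.ext (congrFun e 0) (Subtype.ext (congrFun e 2))) fun x j => by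
      fin_cases j; exacts [rfl, (s _).symm, f _])
    rw [c, Nat.card_prod, m, a, ← pow_add, ← pow_add]; simp [ex]; omega
  · refine le_trans (le_of_eq ?_) (M0.card_ge (fun x : Mu (k + 1) × Mu (k + 1) => ![x.1, x.1 ^ σ, x.2, x.2 ^ σ])
      (fun x y e => Prod.ext (congrFun e 0) (congrFun e 2)) fun x j => by
      fin_cases j; exacts [rfl, (s _).symm, rfl, (s _).symm])
    rw [c, Nat.card_prod, m, ← pow_add, ← pow_add]; simp [ex]; omega
  · refine le_trans (le_of_eq ?_) (M0.card_ge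
      (fun x : Mu (k + 1) × Mu (k + 1) × E => ![x.1, x.1 ^ σ, x.2.1, x.2.1 ^ σ, x.2.2])
      (fun x y e => Prod.ext (congrFun e 0) (Prod.ext (congrFun e 2) (Subtype.ext (congrFun e 4)))) fun x j => by
      fin_cases j; exacts [rfl, (s _).symm, rfl, (s _).symm, f _])
    rw [c, Nat.card_prod, Nat.card_prod, m, a, ← pow_add, ← pow_add, ← pow_add]; simp [ex]; omega

end Cfsg.Lib.FL
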