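import Cfsg.Agent.Lib.FL.Hom
import Cfsg.Agent.Lib.FL.Fus

/-! Fusion in `GL` does not depend on the residue field; descent to subgroups of determinant one. -/

set_option autoImplicit false

namespace Cfsg.Lib.FL

open Subgroup

variable {M G H Γ : Type*} [Group M] [Group G] [Group H] [Group Γ] {ι : M →* G} {κ : M →* H}

theorem Le.eq (a : Le ι κ) {x y : M} (h : ι x = ι y) : κ x = κ y := by
  obtain ⟨g, e⟩ := a 1
  have := e x x (by simp)
  rw [e y x (by simp [h]), ← e y y (by simp)]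

theorem Le.change {R k k' n : Type*} [CommRing R] [IsDomain R] [Field k] [Field k'] [Finite k] [Finite k'] [Fintype n]
    [DecidableEq n] [Finite M] (hM : IsPGroup 2 M) (ρ : M →* Matrix n n R) (π : R →+* k) (π' : R →+* k') (h : (2 : k) ≠ 0)
    (h' : (2 : k') ≠ 0) : Le (mp π ρ).toHomUnits (mp π' ρ).toHomUnits := fun g => by
  let Q : Subgroup (M × M) := ((mp π ρ).toHomUnits.comp (.snd M M)).eqLocus
    ((MulAut.conj g).toMonoidHom.comp ((mp π ρ).toHomUnits.comp (.fst M M)))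
  obtain ⟨a, ha⟩ := IsPGroup.iff_card.1 hM
  obtain ⟨b, -, hb⟩ := (Nat.dvd_prime_pow Nat.prime_two).1
    (show Nat.card Q ∣ 2 ^ (a + a) by simpa [ha, pow_add] using card_subgroup_dvd_card Q)
  obtain ⟨u, hu⟩ := Cj.change (ρ := ρ.comp ((MonoidHom.fst M M).comp Q.subtype))
    (σ := ρ.comp ((MonoidHom.snd M M).comp Q.subtype)) π π' (by simp [hb, h]) (by simp [hb, h'])
    ⟨g, fun x => congrArg Units.val (eq_mul_inv_iff_mul_eq.1 x.2)⟩
  exact ⟨u, fun x y e => eq_mul_inv_iff_mul_eq.2 (Units.ext (hu ⟨(x, y), e⟩))⟩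

theorem Le.of_over [Finite G] [Finite Γ] {C : Type*} [CommGroup C] (a : Sy ι) {i : H →* Γ} (l : Le ι (i.comp κ))
    (hi : Function.Injective i) (d : Γ →* C) (hd : d.ker ≤ i.range)
    (hc : ∀ y, Odd (orderOf y) → ∃ c, d c = d y ∧ ∀ x, c * i (κ x) = i (κ x) * c) : Le ι κ := by
  refine Le.of_odd a (fun x e => hi (by simpa using l.ker e)) fun P g og nP => ?_
  obtain ⟨y, hy⟩ := l g
  have k : ∀ t : ℕ, ∀ x ∈ P, ∃ z ∈ P, ι z = g ^ t * ι x * (g ^ t)⁻¹ ∧ i (κ z) = y ^ t * i (κ x) * (y ^ t)⁻¹ := fun t x hx => by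
    induction t with
    | zero => exact ⟨x, hx, by simp, by simp⟩
    | succ t ih =>
      obtain ⟨z, hz, e1, e2⟩ := ih
      obtain ⟨w, hw, e⟩ := nP z hz
      exact ⟨w, hw, by rw [e, e1]; group, by rw [show i (κ w) = _ from hy z w e, MonoidHom.comp_apply, e2]; group⟩
  obtain ⟨r, o, ho, e⟩ := Nat.exists_eq_two_pow_mul_odd (orderOf_pos y).ne'
  obtain ⟨t, t1, t2⟩ := Nat.chineseRemainder (og.coprime_two_right.pow_right r) 1 0
  obtain ⟨s, rfl⟩ := Nat.modEq_zero_iff_dvd.1 t2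
  obtain ⟨c, c1, c2⟩ := hc (y ^ (2 ^ r * s)) (ho.of_dvd_nat (orderOf_dvd_of_pow_eq_one (by
    rw [← pow_mul, mul_right_comm, ← e, pow_mul, pow_orderOf_eq_one, one_pow])))
  obtain ⟨h, hh⟩ := hd (show y ^ (2 ^ r * s) * c⁻¹ ∈ d.ker by simp [c1])
  refine ⟨h, fun x hx z ez => hi ?_⟩
  obtain ⟨w, -, e1, e2⟩ := k (2 ^ r * s) x hx
  rw [pow_eq_pow_iff_modEq.2 t1, pow_one, ← ez] at e1
  rw [map_mul, map_mul, map_inv, hh, ← show i (κ w) = i (κ z) from l.eq e1, e2, mul_assoc _ c⁻¹, inv_mul_eq_of_eq_mul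
    (show i (κ x) = c * (i (κ x) * c⁻¹) by rw [← mul_assoc, c2, mul_inv_cancel_right])]
  group

theorem Sy.of_le [Finite G] (hM : IsPGroup 2 M) (hi : Function.Injective ι)
    (l : 2 ^ padicValNat 2 (Nat.card G) ≤ Nat.card M) : Sy ι := by
  have hp : IsPGroup 2 ι.range := hM.of_equiv (MonoidHom.ofInjective hi)
  obtain ⟨T, hT⟩ := hp.exists_le_sylow
  refine ⟨T, (eq_of_le_of_card_ge hT ?_).symm⟩
  rwa [← Nat.card_congr (MonoidHom.ofInjective hi).toEquiv, Sylow.card_eq_multiplicity, Nat.factorization_def _ Nat.prime_two]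

/-- Sylow subgroups of a normal subgroup. -/
theorem Sy.normal [Finite Γ] {N : Type*} [Group N] {r : N →* Γ} (a : Sy r) {i : H →* Γ} (hi : Function.Injective i)
    [i.range.Normal] {f : M →* N} (e : i.comp κ = r.comp f) (h : ∀ x, r x ∈ i.range → x ∈ f.range) : Sy κ := by
  obtain ⟨T, hT⟩ := a
  refine ⟨(T.2.comap_of_injective i hi).toSylow (index_comap _ i ▸ Transfer.sylow_not_dvd_relIndex_normal T _),
    le_antisymm (fun u hu => ?_) ?_⟩
  · obtain ⟨x, hx⟩ : i u ∈ r.range := hT ▸ hu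
    obtain ⟨y, rfl⟩ := h x ⟨u, hx.symm⟩
    exact ⟨y, hi ((DFunLike.congr_fun e y).trans hx)⟩
  · rintro _ ⟨x, rfl⟩
    exact show i (κ x) ∈ (T : Subgroup Γ) from hT ▸ ⟨f x, (DFunLike.congr_fun e x).symm⟩

end Cfsg.Lib.FL
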