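import Cfsg.Agent.Lib.FL.Ari

/-! Special linear and unitary groups with the same two-adic type have isomorphic 2-fusion systems. -/

set_option autoImplicit false

namespace Cfsg.Lib.FL

open Subgroup Equiv
open Matrix.GeneralLinearGroup (det)

/-- `H` is the group of matrices of determinant one fixed by a twisted Frobenius map. -/
structure Tw (n : ℕ) (K : Type) [Field K] (H : Type*) [Group H] (τ : ℤ) where
  θ : GL (Fin n) K →* GL (Fin n) K
  i : H →* GL (Fin n) K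
  inj : Function.Injective i
  mem : ∀ g, g ∈ i.range ↔ θ g = g ∧ det g = 1
  mon : ∀ {A : Type} [CommGroup A] (χ : A →* K) (m : W (Fin n) A),
    θ ((mn χ).toHomUnits m) = (mn χ).toHomUnits ⟨fun j => m.d j ^ τ, m.τ⟩
  dt : ∀ g, det (θ g) = det g ^ τ
  lang : ∀ g, θ g = g → g * g = 1 → ∃ u, θ u = u * g
  cj : ∀ {M : Type} [Group M] [Finite M], IsPGroup 2 M → ∀ r : M →* θ.eqLocus (.id _),
    Le ((θ.eqLocus (.id _)).subtype.comp r) r
  card : ∃ o, Odd o ∧ (Nat.card (θ.eqLocus (.id _)) : ℤ) = o * ∏ i ∈ Finset.range n, (τ ^ (i + 1) - 1)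
  cen : ∀ h ∈ center H, ∃ a : K, (i h).1 = a • 1
  cK : (Nat.card K : ℤ) = τ ^ 2

/-- The elements of determinant one of the model. -/
noncomputable abbrev Ms (n b k : ℕ) : Subgroup (W (Fin n) (Mu (k + 1))) :=
  Md n b k ⊓ (Matrix.detMonoidHom.comp (mn (chi (k + 1)))).ker

variable {n b k : ℕ} {K K' : Type} [Field K] [Field K'] [Finite K] [Finite K'] {H H' G : Type*} [Group H] [Group H'] [Group G]
  {τ τ' : ℤ}

/-- The monomial representation over a residue field. -/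
noncomputable abbrev rr (n : ℕ) (π : Rg (k + 1) →+* K) : W (Fin n) (Mu (k + 1)) →* GL (Fin n) K :=
  (mn (π.toMonoidHom.comp (chi (k + 1)))).toHomUnits

theorem Ms.pg (hn : 2 ≤ n ∧ n ≤ 5) : IsPGroup 2 (Ms n b k) := (M0.pg (om_ok hn) Mu.pow).to_inf_left

theorem mn_inj {ι A R : Type*} [CommGroup A] [CommRing R] [Nontrivial R] [Fintype ι] [DecidableEq ι] {χ : A →* R}
    (h : Function.Injective χ) : Function.Injective (mn χ : W ι A →* _) := (injective_iff_map_eq_one _).2 fun _ e =>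
  let ⟨a, b⟩ := mn_eq_smul (e.trans (one_smul _ _).symm)
  W.ext (funext fun j => h ((b j).trans χ.map_one.symm)) a

theorem mn_comm {ι A B R : Type*} [CommGroup A] [CommGroup B] [CommRing R] [Fintype ι] [DecidableEq ι] (χ : A →* R)
    (χ' : B →* R) {c : W ι A} {x : W ι B} (hc : c.τ = 1) (h : ∀ j, c.d (x.τ j) = c.d j) :
    mn χ c * mn χ' x = mn χ' x * mn χ c := by
  ext a b
  rw [Matrix.mul_apply, Matrix.mul_apply, Finset.sum_eq_single (x.τ b) (fun _ _ e => by simp [mn_apply, e]) (by simp),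
    Finset.sum_eq_single b (fun _ _ e => by simp [mn_apply, e, hc]) (by simp)]
  simp [mn_apply, hc, h, mul_comm]

theorem two_ne (e : (Nat.card K : ℤ) = τ ^ 2) (h : Odd τ) : (2 : K) ≠ 0 := fun k => by
  have := Fintype.ofFinite K
  have o : Odd (Fintype.card K) := by
    rw [← Int.odd_coe_nat, ← Nat.card_eq_fintype_card, e]; exact h.pow
  obtain ⟨m, hm⟩ := o
  have := FiniteField.cast_card_eq_zero K
  rw [hm] at this
  simp [k] at this

theorem exists_hom (e : (Nat.card K : ℤ) = τ ^ 2) (h : Ty τ b k) (hb : b < 2) : Nonempty (Rg (k + 1) →+* K) := by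
  obtain ⟨o, -, f⟩ := h.sq hb
  obtain ⟨g, hg⟩ := IsCyclic.exists_ofOrder_eq_natCard (α := Kˣ)
  have d : 2 ^ (k + 1) ∣ orderOf g := by
    rw [hg, Nat.card_units, ← Int.natCast_dvd_natCast, Nat.cast_sub Nat.card_pos, e]
    exact ⟨o, by simpa using f⟩
  have := IsPrimitiveRoot.orderOf (g ^ (orderOf g / 2 ^ (k + 1)))
  rw [orderOf_pow_orderOf_div (orderOf_pos g).ne' d] at this
  exact ⟨(Rg.hom (IsPrimitiveRoot.coe_units_iff.2 this)).choose⟩

theorem det_rr (hn : 2 ≤ n ∧ n ≤ 5) (π : Rg (k + 1) →+* K) (h2 : (2 : K) ≠ 0) {x : W (Fin n) (Mu (k + 1))}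
    (hx : x ∈ Md n b k) : det (rr n π x) = 1 ↔ x ∈ Ms n b k := by
  have e : (det (rr n π x)).1 = π (mn (chi (k + 1)) x).det := by
    rw [RingHom.map_det, rr, ← mp_mn]; rfl
  rw [Units.ext_iff, e]
  refine ⟨fun u => ⟨hx, ?_⟩, fun u => (congrArg π u.2).trans π.map_one⟩
  obtain ⟨a, ha⟩ := M0.pg (om_ok hn) Mu.pow ⟨x, hx⟩
  exact eq_one_of_map π h2 (a := a) (by
    rw [← map_pow, show x ^ 2 ^ a = 1 from congrArg Subtype.val ha, map_one]) u

namespace Tw
variable (X : Tw n K H τ)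

/-- The embedding of the model. -/
structure Em (π : Rg (k + 1) →+* K) (b : ℕ) (j : Ms n b k →* H) (u : GL (Fin n) K) : Prop where
  e : ∀ x, X.i (j x) = u * rr n π x * u⁻¹
  fix : ∀ {A : Type} [CommGroup A] (χ : A →* K) (m : W (Fin n) A), m ∈ M0 A τ (om n) b →
    X.θ (u * (mn χ).toHomUnits m * u⁻¹) = u * (mn χ).toHomUnits m * u⁻¹

theorem fix_md (h : Ty τ b k) {x : W (Fin n) (Mu (k + 1))} (hx : x ∈ Md n b k) : x ∈ M0 _ τ (om n) b :=
  ⟨hx.1, fun j => (hx.2 j).trans (h.zpow _).symm⟩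

theorem exists_em (hn : 2 ≤ n ∧ n ≤ 5) (h : Ty τ b k) (π : Rg (k + 1) →+* K) : ∃ j u, X.Em π b j u := by
  have w2 : om n ^ b * om n ^ b = 1 := by rw [← (Commute.refl _).mul_pow, (om_ok hn).sq, one_pow]
  obtain ⟨u, hu⟩ := X.lang ((mn (Units.coeHom K)).toHomUnits ⟨1, om n ^ b⟩) (by rw [X.mon]; congr; funext; simp) (by
    rw [← map_mul]; exact (congrArg _ (W.ext (funext fun _ => mul_one _) w2)).trans (map_one _))
  have f : ∀ {A : Type} [CommGroup A] (χ : A →* K) (m : W (Fin n) A), m ∈ M0 A τ (om n) b →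
      X.θ (u * (mn χ).toHomUnits m * u⁻¹) = u * (mn χ).toHomUnits m * u⁻¹ := fun χ m hm => by
    have e : (mn (Units.coeHom K)).toHomUnits (⟨1, om n ^ b⟩ : W _ _) = (mn χ).toHomUnits (⟨1, om n ^ b⟩ : W _ _) := by
      ext; simp [mn_apply]
    rw [map_mul, map_mul, map_inv, hu, X.mon, e, mul_assoc u, ← map_mul, mul_inv_rev, ← mul_assoc, mul_assoc u, ← map_inv, ← map_mul]
    congr 3
    refine W.ext (funext fun j => ?_) (mul_inv_eq_iff_eq_mul.2 (hm.1.pow_right b).eq.symm)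
    simp [← hm.2]
  have m : ∀ x : Ms n b k, ((MulAut.conj u).toMonoidHom.comp ((rr n π).comp (Subgroup.subtype _))) x ∈ X.i.range := fun x =>
    (X.mem _).2 ⟨f _ _ (fix_md h x.2.1), by simpa using (det_rr hn π (two_ne X.cK h.odd) x.2.1).2 x.2⟩
  exact ⟨(MonoidHom.ofInjective X.inj).symm.toMonoidHom.comp (MonoidHom.codRestrict _ _ m), u,
    fun x => MonoidHom.apply_ofInjective_symm X.inj _, f⟩

variable {X} {π : Rg (k + 1) →+* K} {j : Ms n b k →* H} {u : GL (Fin n) K}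

theorem Em.eq (E : X.Em π b j u) : X.i.comp j = (MulAut.conj u).toMonoidHom.comp ((rr n π).comp (Subgroup.subtype _)) :=
  MonoidHom.ext E.e

theorem Em.le (E : X.Em π b j u) : Le j ((rr n π).comp (Subgroup.subtype _)) := (E.eq ▸ Le.map j X.i).trans (.map' _ _)

theorem Em.sy (E : X.Em π b j u) (hn : 2 ≤ n ∧ n ≤ 5) (h : Ty τ b k) (hb : b < 2) : Sy j := by
  have h2 := two_ne X.cK h.odd
  let i := X.i.codRestrict (X.θ.eqLocus (.id _)) fun x => ((X.mem _).1 ⟨x, rfl⟩).1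
  have e : i.range = (det.comp (Subgroup.subtype _)).ker := Subgroup.ext fun g =>
    ⟨fun ⟨x, e⟩ => e ▸ ((X.mem _).1 ⟨x, rfl⟩).2, fun e => let ⟨x, e⟩ := (X.mem _).2 ⟨g.2, e⟩; ⟨x, Subtype.ext e⟩⟩
  have : i.range.Normal := e ▸ inferInstance
  let r := ((MulAut.conj u).toMonoidHom.comp ((rr n π).comp (Md n b k).subtype)).codRestrict (X.θ.eqLocus (.id _))
    fun x => E.fix _ _ (fix_md h x.2)
  obtain ⟨o, ho, c⟩ := X.card
  obtain ⟨o', ho', c'⟩ := h.prod hb hn
  refine Sy.normal (r := r) (.of_le (M0.pg (om_ok hn) Mu.pow) (fun x y e => Subtype.ext (mn_inj (chi_inj π h2)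
    (congrArg Units.val ((MulAut.conj u).injective (congrArg Subtype.val e))))) ?_) (i := i)
    (fun x y e => X.inj (congrArg Subtype.val e)) (f := inclusion inf_le_left) (MonoidHom.ext fun x => Subtype.ext (E.e x))
    fun x hx => ⟨⟨x, (det_rr hn π h2 x.2).1 (by simpa [e, r] using hx)⟩, rfl⟩
  rw [← Int.natAbs_natCast (Nat.card _), val_int (c.trans (by rw [c', mul_left_comm])) (ho.mul ho')]
  exact Md.card hn hb (one_le_two.trans h.1)

theorem Em.ge [Finite G] (E : X.Em π b j u) (hn : 2 ≤ n ∧ n ≤ 5) {ι : Ms n b k →* G} (a : Sy ι)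
    (l : Le ι ((rr n π).comp (Subgroup.subtype _))) : Le ι j := by
  let i := X.i.codRestrict (X.θ.eqLocus (.id _)) fun x => ((X.mem _).1 ⟨x, rfl⟩).1
  refine Le.of_over a (i := i) ((l.trans (show Le _ (X.i.comp j) from E.eq ▸ .map _ _)).trans (X.cj (Ms.pg hn) (i.comp j)))
    (fun x y e => X.inj (congrArg Subtype.val e)) (det.comp (Subgroup.subtype _))
    (fun g e => let ⟨x, e⟩ := (X.mem _).2 ⟨g.2, e⟩; ⟨x, Subtype.ext e⟩) fun y hy => ?_
  obtain ⟨S, l, hS, hs⟩ := (om_ok hn).inv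
  obtain ⟨t, ht⟩ := exists_pow_eq_self_of_coprime (x := det y.1) (n := 2 ^ l)
    ((hy.of_dvd_nat (orderOf_map_dvd (det.comp (Subgroup.subtype _)) y)).coprime_two_left.pow_left l)
  have f : det y.1 ^ t = (det y.1 ^ t) ^ τ := by
    rw [← zpow_natCast, ← zpow_mul, mul_comm, zpow_mul, ← X.dt, show X.θ y.1 = y.1 from y.2]
  let c : W (Fin n) Kˣ := ⟨fun j => if j ∈ S then det y.1 ^ t else 1, 1⟩
  refine ⟨⟨_, E.fix (Units.coeHom K) c ⟨.one_left _, fun j => ?_⟩⟩, ?_, fun x => Subtype.ext ?_⟩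
  · simp only [c, hs _ ((Commute.refl _).pow_left b).eq]
    split_ifs
    exacts [f, (one_zpow _).symm]
  · refine (show _ = det ((mn (Units.coeHom K)).toHomUnits c) by simp).trans (Units.ext ((det_mn _ _).trans ?_))
    rw [← pow_mul, mul_comm, pow_mul] at ht
    simp [c, hS, ← Units.val_pow_eq_pow_val, ht]
  · have : (mn (Units.coeHom K)).toHomUnits c * rr n π x = rr n π x * (mn (Units.coeHom K)).toHomUnits c :=
      Units.ext (mn_comm _ _ rfl fun j => by simp only [c, hs _ x.2.1.1.eq])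
    change _ * X.i (j x) = X.i (j x) * _
    rw [E.e, conj_mul, conj_mul, this]

theorem Em.cen (E : X.Em π b j u) (h2 : (2 : K) ≠ 0) {x : Ms n b k} :
    j x ∈ center H ↔ x.1.τ = 1 ∧ ∀ s t, x.1.d s = x.1.d t := by
  refine ⟨fun h => ?_, fun h => mem_center_iff.2 fun g => X.inj (Units.ext ?_)⟩
  · obtain ⟨a, e⟩ := X.cen _ h
    obtain ⟨p, q⟩ := mn_eq_smul (a := a) (show (rr n π x).1 = _ by
      rw [show rr n π x = u⁻¹ * X.i (j x) * u by rw [E.e]; group]
      simp [e])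
    exact ⟨p, fun s t => chi_inj π h2 ((q s).trans (q t).symm)⟩
  · rcases isEmpty_or_nonempty (Fin n) with _ | ⟨⟨s⟩⟩
    · exact Subsingleton.elim _ _
    have : (X.i (j x)).1 = π (chi _ (x.1.d s)) • 1 := by
      rw [E.e, Units.val_mul, Units.val_mul, show (rr n π x).1 = _ from mn_of_const h.1 fun t => congrArg _ (h.2 t s)]
      simp
    simp [this]

theorem eqv (X : Tw n K H τ) (X' : Tw n K' H' τ') (hn : 2 ≤ n ∧ n ≤ 5) (hb : b < 2) (h : Ty τ b k) (h' : Ty τ' b k) :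
    Eqv (H ⧸ center H) (H' ⧸ center H') := by
  have := Finite.of_injective _ X.inj
  have := Finite.of_injective _ X'.inj
  have h2 := two_ne X.cK h.odd
  have h2' := two_ne X'.cK h'.odd
  obtain ⟨π⟩ := exists_hom X.cK h hb
  obtain ⟨π'⟩ := exists_hom X'.cK h' hb
  obtain ⟨j, u, E⟩ := X.exists_em hn h π
  obtain ⟨j', u', E'⟩ := X'.exists_em hn h' π'
  have s := E.sy hn h hb
  have s' := E'.sy hn h' hb
  have c : ∀ {K K' : Type} [Field K] [Field K'] [Finite K] [Finite K'] (π : Rg (k + 1) →+* K) (π' : Rg (k + 1) →+* K'),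
      (2 : K) ≠ 0 → (2 : K') ≠ 0 → Le ((rr n π).comp (Ms n b k).subtype) ((rr n π').comp (Ms n b k).subtype) :=
    fun π π' a a' => by
      rw [rr, rr, ← mp_mn, ← mp_mn]
      exact Le.change (Ms.pg hn) ((mn (chi (k + 1))).comp (Ms n b k).subtype) π π' a a'
  have q := QuotientGroup.mk'_surjective (center H)
  have q' := QuotientGroup.mk'_surjective (center H')
  exact eqv_of_model (s.map q) (s'.map q')
    (.quot s (E'.ge hn s (E.le.trans (c _ _ h2 h2'))) q (QuotientGroup.ker_mk' _).le fun x e =>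
      (QuotientGroup.eq_one_iff _).2 ((E'.cen h2').2 ((E.cen h2).1 ((QuotientGroup.eq_one_iff _).1 e))))
    (.quot s' (E.ge hn s' (E'.le.trans (c _ _ h2' h2))) q' (QuotientGroup.ker_mk' _).le fun x e =>
      (QuotientGroup.eq_one_iff _).2 ((E.cen h2).2 ((E'.cen h2').1 ((QuotientGroup.eq_one_iff _).1 e))))

end Tw

end Cfsg.Lib.FL
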